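import Groth.Agent.MilnorK.K849.LatV

/-!
# Boundedness in terms of `ALe`
-/

set_option autoImplicit false

universe u

namespace Groth.Agent.MilnorK.K849.LatV

open TensorProduct LinearMap FDet Ext Lat Blk Module Adapt Toep
open Groth.Agent.MilnorK.K689.Glob

theorem lft_iff_ale {κ : Type*} [Field κ] {V V' A A' : Type*} [AddCommGroup V] [Module κ V]
    [AddCommGroup A] [Module κ A] [AddCommGroup V'] [Module κ V'] [AddCommGroup A'] [Module κ A']
    {F : V →ₗ[κ] V'} {i : A →ₗ[κ] V} {i' : A' →ₗ[κ] V'} :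
    Lft F i i' ↔ ALe (range (F ∘ₗ i)) (range i') := by
  rw [ale_iff]
  unfold Lft
  rw [LinearMap.id_comp]

variable {K : Type u} [Field K] {P : Places K} {W W₁ : Type u} [AddCommGroup W] [Module K W]
  [AddCommGroup W₁] [Module K W₁]

theorem std_ale (x : P.X) {J₁ J : Type} [Fintype J₁] [Fintype J] (f : W₁ →ₗ[K] W)
    (b₁ : J₁ → W₁) (b : Module.Basis J K W) :
    ALe (range (P.bc x f ∘ₗ P.std x b₁)) (range (P.std x b)) :=
  lft_iff_ale.1 (lft_std x (f.baseChange (P.Kh x)) b₁ b)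

theorem bc_ale (L₁ : Lat P W₁) (L : Lat P W) (x : P.X) (f : W₁ →ₗ[K] W) :
    ALe (range (P.bc x f ∘ₗ L₁.i x)) (range (L.i x)) :=
  lft_iff_ale.1 (lft_bc L₁ L x f)

/-- The same for `Kh`-linear maps. -/
theorem ale_of_linear (L₁ : Lat P W₁) (L : Lat P W) (x : P.X)
    (F : P.V x W₁ →ₗ[P.Kh x] P.V x W) :
    ALe (range (F.restrictScalars (P.κ x) ∘ₗ L₁.i x)) (range (L.i x)) :=
  lft_iff_ale.1 (lft L₁ L x F)

end Groth.Agent.MilnorK.K849.LatV
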