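import Groth.Agent.MilnorK.K849.LatV
import Groth.Agent.MilnorK.K163.StPres
import Mathlib.LinearAlgebra.SpecialLinearGroup

/-!
# Local lifts

Elements of `GL(W)` whose determinant is a unit at `x` lift to the group of pairs of every lattice.
-/

set_option autoImplicit false

universe u

namespace Groth.Agent.MilnorK.K849.LatV

open TensorProduct LinearMap FDet Ext Lat Blk Module Adapt Toep
open Groth.Agent.MilnorK.K689.Glob

variable {K : Type u} [Field K] {P : Places K} {W : Type u} [AddCommGroup W] [Module K W]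

/-- The group elements that lift at `x`. -/
def LG (L : Lat P W) (x : P.X) : Subgroup (W ≃ₗ[K] W) where
  carrier := {g | ∃ q : L.A x ≃ₗ[P.κ x] L.A x, Cond (P.gl x W) (L.i x) g q}
  mul_mem' := fun ⟨q, h⟩ ⟨q', h'⟩ => ⟨q * q', h.mul h'⟩
  one_mem' := ⟨1, Cond.one⟩
  inv_mem' := fun ⟨q, h⟩ => ⟨q⁻¹, h.inv⟩

theorem mem_LG_iff {L : Lat P W} {x : P.X} {g : W ≃ₗ[K] W} : g ∈ LG L x ↔
    ∃ q : L.A x ≃ₗ[P.κ x] L.A x, Cond (P.gl x W) (L.i x) g q := Iff.rfl

theorem LG_eq (L L' : Lat P W) (x : P.X) : LG L x = LG L' x :=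
  le_antisymm (fun _ ⟨_, h⟩ => exists_cond_transfer L L' x h)
    fun _ ⟨_, h⟩ => exists_cond_transfer L' L x h

/-- Two step flags. -/
def flag2 {κ V : Type*} [Field κ] [AddCommGroup V] [Module κ V] (S : Submodule κ V) :
    Uni.Flag κ V where
  F k := if k = 0 then ⊥ else if k = 1 then S else ⊤
  mono := by
    refine monotone_nat_of_le_succ fun k => ?_
    rcases k with _ | _ | k <;> simp
  bot := if_pos rfl
  n := 2
  top := by simp

/-- Quadratic unipotent elements lift. -/
theorem mem_LG_of_sq (L : Lat P W) (x : P.X) (g : W ≃ₗ[K] W)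
    (h : ∀ w, g (g w - w) = g w - w) : g ∈ LG L x := by
  let n : W →ₗ[K] W := g.toLinearMap - LinearMap.id
  have hn : n ∘ₗ n = 0 := by
    ext w
    change g (g w - w) - (g w - w) = 0
    rw [h, sub_self]
  have hg : ∀ v, P.gl x W g v = v + P.bc x n v := by
    intro v
    have : g.toLinearMap = LinearMap.id + n := by
      simp only [n]; abel
    rw [P.gl_apply, this, P.bc_add, P.bc_id]
    rfl
  have hnn : ∀ v, P.bc x n (P.bc x n v) = 0 := by
    intro v
    rw [← P.bc_comp_apply, hn, P.bc_zero]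
    rfl
  let f := flag2 (LinearMap.ker (P.bc x n))
  have hU : Uni.Un f (P.gl x W g).toLinearMap := by
    intro k v hv
    rw [LinearEquiv.coe_coe, hg, add_sub_cancel_left]
    rcases k with _ | _ | k
    · have : P.bc x n v = 0 := hv
      rw [this]
      exact zero_mem _
    · exact hnn v
    · trivial
  obtain ⟨e, ⟨g', q, hc, he, -, -⟩, hp⟩ := Uni.exists_isU (ρ := P.gl x W) f (L.inj x) hU
    fun p hp => (lft_gl L x g).retr p hp
  rw [he, pr_mk] at hp
  subst hp
  exact ⟨q, hc⟩

/-- The transvections. -/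
theorem toLin_mem_LG (L : Lat P W) (x : P.X) {J : Type} [Fintype J] [DecidableEq J]
    (b : Module.Basis J K W) (M : Matrix.SpecialLinearGroup J K) :
    ((Matrix.SpecialLinearGroup.toLin_equiv b M : SpecialLinearGroup K W) : W ≃ₗ[K] W) ∈
      LG L x := by
  rcases subsingleton_or_nontrivial J with hJ | hJ
  · have : M = 1 := Subsingleton.elim _ _
    rw [this, map_one]
    exact one_mem _
  let φ : Matrix.SpecialLinearGroup J K →* (W ≃ₗ[K] W) :=
    SpecialLinearGroup.toLinearEquiv.comp (Matrix.SpecialLinearGroup.toLin_equiv b).toMonoidHom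
  have h1 : (⊤ : Subgroup (Matrix.SpecialLinearGroup J K)) ≤ (LG L x).comap φ := by
    rw [← K163.Stein.sl_closure, Subgroup.closure_le]
    rintro _ ⟨i, j, hij, a, rfl⟩
    refine mem_LG_of_sq L x _ fun w => ?_
    -- the action of the transvection
    have key : ∀ w, φ (Matrix.SpecialLinearGroup.transvection hij a) w =
        w + (a * b.repr w j) • b i := by
      intro w
      change Matrix.toLin b b (Matrix.SpecialLinearGroup.transvection hij a :
        Matrix.SpecialLinearGroup J K).1 w = _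
      apply b.repr.injective
      ext k
      rw [Matrix.repr_toLin]
      change ((Matrix.SpecialLinearGroup.transvection hij a : Matrix.SpecialLinearGroup J K).1.mulVec
        (b.repr w)) k = _
      rw [K163.Stein.transvection_mulVec hij a]
      simp only [Pi.add_apply, map_add, map_smul, Finsupp.add_apply, Finsupp.smul_apply,
        Module.Basis.repr_self, smul_eq_mul, Finsupp.single_apply, Pi.single_apply, eq_comm]
      split_ifs <;> simp
    have hji : b.repr (b i) j = 0 := by
      rw [Module.Basis.repr_self, Finsupp.single_apply, if_neg hij]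
    have h3 : φ (Matrix.SpecialLinearGroup.transvection hij a) w - w = (a * b.repr w j) • b i := by
      rw [key, add_sub_cancel_left]
    rw [h3, key, map_smul, Finsupp.smul_apply, hji, smul_zero, mul_zero, zero_smul, add_zero]
  exact h1 (Subgroup.mem_top M)

theorem mem_LG_of_det (L : Lat P W) (x : P.X) (g : W ≃ₗ[K] W) (h : LinearEquiv.det g = 1) :
    g ∈ LG L x := by
  obtain ⟨n, b, -, -⟩ := L.lat x
  have := toLin_mem_LG L x b ((Matrix.SpecialLinearGroup.toLin_equiv b).symm ⟨g, h⟩)
  rwa [MulEquiv.apply_symm_apply] at this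

/-- Diagonal automorphisms. -/
noncomputable def dgl {n : ℕ} (b : Module.Basis (Fin n) K W) (d : Fin n → Kˣ) : W ≃ₗ[K] W :=
  LinearEquiv.ofLinearMap (Matrix.toLin b b (Matrix.diagonal fun j => (d j : K)))
    (Matrix.toLin b b (Matrix.diagonal fun j => ((d j)⁻¹ : Kˣ))) (by
      rw [← Matrix.toLin_mul, Matrix.diagonal_mul_diagonal]
      simp) (by
      rw [← Matrix.toLin_mul, Matrix.diagonal_mul_diagonal]
      simp)

theorem dgl_apply {n : ℕ} (b : Module.Basis (Fin n) K W) (d : Fin n → Kˣ) (j : Fin n) :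
    dgl b d (b j) = (d j : K) • b j := by
  change Matrix.toLin b b (Matrix.diagonal fun j => (d j : K)) (b j) = _
  rw [Matrix.toLin_self]
  rw [Finset.sum_eq_single j]
  · rw [Matrix.diagonal_apply_eq]
  · intro k _ hk
    rw [Matrix.diagonal_apply_ne _ hk, zero_smul]
  · simp

theorem det_dgl {n : ℕ} (b : Module.Basis (Fin n) K W) (d : Fin n → Kˣ) :
    LinearEquiv.det (dgl b d) = ∏ j, d j := by
  apply Units.ext
  rw [LinearEquiv.coe_det]
  change LinearMap.det (Matrix.toLin b b (Matrix.diagonal fun j => (d j : K))) = _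
  rw [LinearMap.det_toLin, Matrix.det_diagonal, Units.coe_prod]

/-- Diagonal automorphism of the standard lattice. -/
def dgO (x : P.X) {n : ℕ} (d : Fin n → (P.O x)ˣ) : (Fin n → P.O x) ≃ₗ[P.κ x] (Fin n → P.O x) where
  toFun r j := d j * r j
  map_add' r s := by funext j; exact mul_add _ _ _
  map_smul' c r := by funext j; simp [Algebra.smul_def, mul_left_comm]
  invFun r j := ((d j)⁻¹ : (P.O x)ˣ) * r j
  left_inv r := by funext j; simp
  right_inv r := by funext j; simp

theorem dgl_std (x : P.X) {n : ℕ} (b : Module.Basis (Fin n) K W) (d : Fin n → Kˣ)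
    (d' : Fin n → (P.O x)ˣ)
    (hd : ∀ j, algebraMap (P.O x) (P.Kh x) (d' j) = algebraMap K (P.Kh x) (d j))
    (r : Fin n → P.O x) : P.gl x W (dgl b d) (P.std x b r) = P.std x b (dgO x d' r) := by
  rw [P.std_apply, P.std_apply, map_sum]
  refine Finset.sum_congr rfl fun j _ => ?_
  rw [P.gl_apply, P.bc_tmul]
  change algebraMap (P.O x) (P.Kh x) (r j) ⊗ₜ[K] dgl b d (b j) =
    algebraMap (P.O x) (P.Kh x) (d' j * r j) ⊗ₜ[K] b j
  rw [dgl_apply, map_mul, hd, ← Algebra.smul_def, TensorProduct.smul_tmul]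

/-- The standard lattice of a basis. -/
noncomputable def stdL (P : Places K) {n : ℕ} (b : Module.Basis (Fin n) K W) : Lat P W where
  A x := Fin n → P.O x
  i x := P.std x b
  inj x := std_injective x b
  lat x := ⟨n, b, ale_refl _, ale_refl _⟩

/-- **Local lifts**: automorphisms whose determinant is a unit at `x` lift at `x`. -/
theorem mem_LG (L : Lat P W) (x : P.X) (g : W ≃ₗ[K] W) (v : (P.O x)ˣ)
    (hv : algebraMap (P.O x) (P.Kh x) v = algebraMap K (P.Kh x) (LinearEquiv.det g : Kˣ)) :
    g ∈ LG L x := by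
  obtain ⟨n, b, -, -⟩ := L.lat x
  rcases n with _ | n
  · have : g = 1 := by
      refine LinearEquiv.ext fun w => b.repr.injective ?_
      exact Subsingleton.elim _ _
    rw [this]
    exact one_mem _
  let u : Kˣ := LinearEquiv.det g
  let d : Fin (n + 1) → Kˣ := Fin.cons u fun _ => 1
  let d' : Fin (n + 1) → (P.O x)ˣ := Fin.cons v fun _ => 1
  have hd : ∀ j, algebraMap (P.O x) (P.Kh x) (d' j) = algebraMap K (P.Kh x) (d j) := by
    intro j
    refine Fin.cases ?_ (fun j => ?_) j
    · exact hv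
    · simp [d, d']
  have h1 : dgl b d ∈ LG L x := by
    rw [LG_eq L (stdL P b) x]
    exact ⟨dgO x d', Cond.of_eq (i := P.std x b) (dgl_std x b d d' hd)⟩
  have h2 : LinearEquiv.det (g * (dgl b d)⁻¹) = 1 := by
    rw [map_mul, map_inv, det_dgl, Fin.prod_univ_succ]
    simp [d, u]
  have h3 := mul_mem (mem_LG_of_det L x _ h2) h1
  rwa [inv_mul_cancel_right] at h3

end Groth.Agent.MilnorK.K849.LatV
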